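import Mathlib
import Cfsg.Agent.Block.IBr
import Cfsg.Agent.Chev.ASLin

/-!
# The Brauer character of a modular representation
-/

set_option autoImplicit false

namespace Cfsg.Agent.XM.E3

open Module Function Cfsg Cfsg.Agent.Block Cfsg.Agent.Chev.AS MonoidAlgebra

variable {G : Type*} [Group G] [Finite G] {M : Ideal AlgInt} {p : ℕ} {V : Type*} [AddCommGroup V]
  [Module (resField M) V] [FiniteDimensional (resField M) V] (ρ : G →* End (resField M) V)

/-- The rank of the reduction of an element of the group algebra. -/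
noncomputable def rk (e : MonoidAlgebra ℂ G) : ℕ :=
  finrank (resField M) (LinearMap.range (Representation.asAlgebraHom ρ (redAlg M e)))

/-- The Brauer character. -/
noncomputable def bc : G → ℂ := ∑ i : IBr M G, (rk ρ (pimIdem i) : ℂ) • brauer i

omit [FiniteDimensional (resField M) V] in
theorem bc_conj (g h : G) : bc ρ (h * g * h⁻¹) = bc ρ g := by
  simp only [bc, Finset.sum_apply, Pi.smul_apply, isClassFunction_brauer _ g h]

omit [FiniteDimensional (resField M) V] in
theorem bc_eq_of {g r c : G} (h : c * g = r * c) : bc ρ g = bc ρ r := by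
  rw [← bc_conj ρ g c, h, mul_inv_cancel_right]

theorem rk_eq_sum {e : MonoidAlgebra ℂ G} (hi : e ∈ intAlg M G) (he : IsIdempotentElem e) :
    rk ρ e = ∑ i : IBr M G, (brAlg i (redAlg M e)).rank * rk ρ (pimIdem i) :=
  idemInv_eq_sum_rank (τ := fun a : intAlg M G => rk ρ a.1) (idemInv_finrank_range.comp
    ((Representation.asAlgebraHom ρ).toRingHom.comp (redHom M G))) hi he

theorem ev_bc (hM : IsPModular p M) {e : MonoidAlgebra ℂ G} (hi : e ∈ intAlg M G)
    (he : IsIdempotentElem e) : ev (bc ρ) e = rk ρ e := by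
  rw [ev_idem_eq_sum (M := M) (bc_conj ρ) hi he, rk_eq_sum ρ hi he]
  push_cast
  refine Finset.sum_congr rfl fun i _ => ?_
  rw [ev_pimIdem_eq_of_sum hM (bc_conj ρ) (c := fun i => rk ρ (pimIdem i)) fun g _ => by
    simp [bc, Finset.sum_apply]]

theorem bc_one (hM : IsPModular p M) : bc ρ 1 = finrank (resField M) V := by
  rw [← ev_one (bc ρ), ev_bc ρ hM (one_mem _) IsIdempotentElem.one, rk, redAlg_one, map_one,
    End.one_eq_id, LinearMap.range_id, finrank_top]

/-! ### Averages over subgroups -/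

/-- The multiset is permuted by its members. -/
def Cl (s : Multiset G) : Prop := ∀ g ∈ s, s.map (g * ·) = s

/-- The average. -/
noncomputable def avg (s : Multiset G) : MonoidAlgebra ℂ G :=
  (s.card : ℂ)⁻¹ • (s.map fun g => single g 1).sum

omit [Finite G] in
theorem Cl.mul_sum {s : Multiset G} (h : Cl s) {A : Type*} [Semiring A] (f : G →* A) {g : G}
    (hg : g ∈ s) : f g * (s.map f).sum = (s.map f).sum := by
  conv_rhs => rw [← h g hg]
  rw [← Multiset.sum_map_mul_left, Multiset.map_map]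
  simp

omit [Finite G] in
theorem Cl.single_mul {s : Multiset G} (h : Cl s) {g : G} (hg : g ∈ s) :
    single g 1 * avg s = avg s := by
  rw [avg, mul_smul_comm]
  exact congrArg _ (h.mul_sum (of ℂ G) hg)

omit [Finite G] in
theorem Cl.idem {s : Multiset G} (h : Cl s) (h0 : s.card ≠ 0) : IsIdempotentElem (avg s) := by
  unfold IsIdempotentElem
  nth_rewrite 1 [avg]
  rw [smul_mul_assoc, ← Multiset.sum_map_mul_right, Multiset.map_congr rfl fun g hg => h.single_mul hg,
    Multiset.map_const', Multiset.sum_replicate, ← Nat.cast_smul_eq_nsmul ℂ, smul_smul,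
    inv_mul_cancel₀ (Nat.cast_ne_zero.2 h0), one_smul]

theorem sum_mem_intAlg (s : Multiset G) :
    (s.map fun g => (single g 1 : MonoidAlgebra ℂ G)).sum ∈ intAlg M G :=
  multiset_sum_mem _ fun a ha => by
    obtain ⟨g, -, rfl⟩ := Multiset.mem_map.1 ha
    exact single_one_mem_intAlg g

theorem redAlg_msum (s : Multiset G) :
    redAlg M (s.map fun g => (single g 1 : MonoidAlgebra ℂ G)).sum = (s.map fun g => single g 1).sum := by
  induction s using Multiset.induction_on with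
  | empty => simpa using redAlg_zero
  | cons a s ih =>
    rw [Multiset.map_cons, Multiset.sum_cons, redAlg_add (single_one_mem_intAlg a) (sum_mem_intAlg s),
      ih, redAlg_single_one, Multiset.map_cons, Multiset.sum_cons]

omit [Finite G] in
theorem ev_avg (θ : G → ℂ) (s : Multiset G) : ev θ (avg s) = (s.card : ℂ)⁻¹ * (s.map θ).sum := by
  rw [avg, map_smul, map_multiset_sum, Multiset.map_map]
  simp

variable (hM : IsPModular p M)
include hM

theorem avg_mem {s : Multiset G} (hs : ¬ p ∣ s.card) : avg s ∈ intAlg M G :=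
  intAlg_smul_mem (val_inv_of_eq_one ((val_natCast_eq_one_iff hM _).2 hs)).le (sum_mem_intAlg s)

theorem redAlg_avg {s : Multiset G} (hs : ¬ p ∣ s.card) :
    redAlg M (avg s) = (s.card : resField M)⁻¹ • (s.map fun g => single g 1).sum := by
  have h := (val_natCast_eq_one_iff hM _).2 hs
  rw [avg, redAlg_smul (val_inv_of_eq_one h).le (sum_mem_intAlg s), redAlg_msum, red_inv h, red_natCast]

omit [Finite G] in
theorem cast_ne_zero {n : ℕ} (hs : ¬ p ∣ n) : (n : resField M) ≠ 0 := by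
  have := charP_resField hM
  rwa [Ne, CharP.cast_eq_zero_iff (resField M) p]

omit [FiniteDimensional (resField M) V] in
theorem rk_avg {s : Multiset G} (hs : ¬ p ∣ s.card) :
    rk ρ (avg s) = finrank (resField M) (LinearMap.range (s.map ρ).sum) := by
  rw [rk, redAlg_avg hM hs, map_smul, LinearMap.range_smul _ _ (inv_ne_zero (cast_ne_zero hM hs)),
    map_multiset_sum, Multiset.map_map, show (Representation.asAlgebraHom ρ ∘ fun g => single g 1) = ρ from
      funext fun g => Representation.asAlgebraHom_single_one ρ g]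

/-- The dimension of the fixed space of a subgroup of order prime to `p`. -/
theorem sum_bc {s : Multiset G} (h : Cl s) (hs : ¬ p ∣ s.card) :
    (s.map (bc ρ)).sum = s.card * finrank (resField M) (LinearMap.range (s.map ρ).sum) := by
  have h0 : s.card ≠ 0 := fun e => hs (e ▸ dvd_zero p)
  rw [← rk_avg ρ hM hs, ← ev_bc ρ hM (avg_mem hM hs) (h.idem h0), ev_avg,
    mul_inv_cancel_left₀ (Nat.cast_ne_zero.2 h0)]

/-! ### Eigenvalues -/

omit hM in
theorem sum_zmod {A : Type*} [AddCommMonoid A] (n : ℕ) [NeZero n] (f : ℕ → A) :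
    ∑ a : ZMod n, f a.val = ∑ i ∈ Finset.range n, f i := by
  obtain ⟨n, rfl⟩ := Nat.exists_eq_succ_of_ne_zero (NeZero.ne n)
  exact Fin.sum_univ_eq_sum_range f (n + 1)

omit hM [Finite G] in
theorem mul_eig {R A : Type*} [Field R] [Ring A] [Algebra R A] {x : A} {n : ℕ} (hx : x ^ n = 1) {z : R}
    (hz : z ^ n = 1) (hn : n ≠ 0) (m : ℕ) : x ^ m * ∑ j ∈ Finset.range n, z⁻¹ ^ j • x ^ j =
      z ^ m • ∑ j ∈ Finset.range n, z⁻¹ ^ j • x ^ j := by
  have h0 : z ≠ 0 := by
    rintro rfl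
    exact zero_ne_one ((zero_pow hn).symm.trans hz)
  have h1 : x * ∑ j ∈ Finset.range n, z⁻¹ ^ j • x ^ j = z • ∑ j ∈ Finset.range n, z⁻¹ ^ j • x ^ j := by
    have h2 := Finset.sum_range_succ (fun j => z⁻¹ ^ j • x ^ j) n
    rw [Finset.sum_range_succ', inv_pow z n, hx, hz, pow_zero, pow_zero, inv_one, add_left_inj] at h2
    conv_rhs => rw [← h2]
    rw [Finset.mul_sum, Finset.smul_sum]
    refine Finset.sum_congr rfl fun j _ => ?_
    rw [mul_smul_comm, smul_smul, pow_succ', pow_succ', mul_inv_cancel_left₀ h0]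
  induction m with
  | zero => simp
  | succ m ih => rw [pow_succ, mul_assoc, h1, mul_smul_comm, ih, smul_smul, pow_succ']

omit hM [Finite G] in
theorem range_eig {k W : Type*} [Field k] [AddCommGroup W] [Module k W] {x : End k W} {n : ℕ}
    (hx : x ^ n = 1) {z : k} (hz : z ^ n = 1) (hn : (n : k) ≠ 0) :
    LinearMap.range (∑ j ∈ Finset.range n, z⁻¹ ^ j • x ^ j) = x.eigenspace z := by
  have h0 : n ≠ 0 := by rintro rfl; simp at hn
  have h1 : z ≠ 0 := by
    rintro rfl
    exact zero_ne_one ((zero_pow h0).symm.trans hz)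
  refine le_antisymm ?_ fun v hv => ⟨(n : k)⁻¹ • v, ?_⟩
  · rintro _ ⟨v, rfl⟩
    simpa [End.mem_eigenspace_iff] using LinearMap.congr_fun (mul_eig hx hz h0 1) v
  · rw [map_smul, LinearMap.sum_apply, Finset.sum_congr rfl (g := fun _ => v) fun j _ => by
      rw [LinearMap.smul_apply, pow_apply_of_eq (End.mem_eigenspace_iff.1 hv), smul_smul, ← mul_pow,
        inv_mul_cancel₀ h1, one_pow, one_smul]]
    simp [← Nat.cast_smul_eq_nsmul k, smul_smul, hn]

/-- The Brauer character is the sum of the lifted eigenvalues. -/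
theorem exists_bc_eq {n : ℕ} [NeZero n] (hn : ¬ p ∣ n) : ∃ (ζ : ℂ) (ψ : AddChar (ZMod n) (resField M)),
    IsPrimitiveRoot ζ n ∧ Psi ψ ∧ ∀ g : G, g ^ n = 1 → ∀ m : ℕ,
      bc ρ (g ^ m) = ∑ a, (ed ψ (ρ g) a : ℂ) * ζ ^ (a.val * m) := by
  have h0 := NeZero.ne n
  have hζ := Complex.isPrimitiveRoot_exp n h0
  generalize Complex.exp _ = ζ at hζ
  have hv : ∀ j, val M (ζ ^ j) = 1 := fun j =>
    val_eq_one_of_pow_eq_one h0 (by rw [← pow_mul, mul_comm, pow_mul, hζ.pow_eq_one, one_pow])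
  have hv1 : val M ζ ≤ 1 := by simpa using (hv 1).le
  have hz : IsPrimitiveRoot (red M ζ) n := ⟨by rw [← red_pow hv1, hζ.pow_eq_one, red_one], fun l hl =>
    hζ.dvd_of_pow_eq_one l (eq_one_of_pow_eq_one_of_val_sub_lt hM hn
      (by rw [← pow_mul, mul_comm, pow_mul, hζ.pow_eq_one, one_pow])
      ((red_eq_iff (hv l).le (by simp)).1 (by rw [red_pow hv1, hl, red_one])))⟩
  have hk := cast_ne_zero hM hn
  have hc : (n : ℂ) ≠ 0 := Nat.cast_ne_zero.2 h0
  have hnv := (val_natCast_eq_one_iff hM _).2 hn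
  refine ⟨ζ, AddChar.zmodChar n hz.pow_eq_one, hζ, ⟨fun a b h => ZMod.val_injective n
    (hz.pow_inj (ZMod.val_lt a) (ZMod.val_lt b) h), fun a ha => ?_, hk⟩, fun g hg m => ?_⟩
  · obtain ⟨i, -, rfl⟩ := hz.eq_pow_of_pow_eq_one ha
    exact ⟨i, AddChar.zmodChar_apply' _ _⟩
  let x : MonoidAlgebra ℂ G := single g 1
  have hx : x ^ n = 1 := by rw [single_pow, hg, one_pow, one_def]
  let S : ℕ → MonoidAlgebra ℂ G := fun a => ∑ j ∈ Finset.range n, (ζ ^ a)⁻¹ ^ j • x ^ j
  have h1 : ∀ a m, x ^ m * S a = (ζ ^ a) ^ m • S a := fun a =>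
    mul_eig hx (by rw [← pow_mul, mul_comm, pow_mul, hζ.pow_eq_one, one_pow]) h0
  have h2 : ∀ a, IsIdempotentElem ((n : ℂ)⁻¹ • S a) := fun a => by
    have : S a * S a = (n : ℂ) • S a := by
      rw [show S a * S a = (∑ j ∈ Finset.range n, (ζ ^ a)⁻¹ ^ j • x ^ j) * S a from rfl, Finset.sum_mul, Finset.sum_congr rfl (g := fun _ => S a) fun j _ => by
        rw [smul_mul_assoc, h1, smul_smul, ← mul_pow, inv_mul_cancel₀ (pow_ne_zero _ (hζ.ne_zero h0)),
          one_pow, one_smul]]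
      simp [Nat.cast_smul_eq_nsmul]
    unfold IsIdempotentElem
    rw [smul_mul_assoc, mul_smul_comm, this, smul_smul (n : ℂ)⁻¹ (n : ℂ), inv_mul_cancel₀ hc, one_smul]
  have h3 : ∀ a j : ℕ, val M ((ζ ^ a)⁻¹ ^ j) ≤ 1 := fun a j =>
    val_pow_le_one (val_inv_of_eq_one (hv a)).le j
  have h4 : ∀ a j : ℕ, (ζ ^ a)⁻¹ ^ j • x ^ j ∈ intAlg M G := fun a j =>
    intAlg_smul_mem (h3 a j) (pow_mem (single_one_mem_intAlg g) j)
  have h5 : ∀ a, S a ∈ intAlg M G := fun a => sum_mem fun j _ => h4 a j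
  have h6 : ∑ a ∈ Finset.range n, S a = (n : ℂ) • (1 : MonoidAlgebra ℂ G) := by
    rw [Finset.sum_comm, Finset.sum_eq_single 0]
    · simp [Nat.cast_smul_eq_nsmul]
    · intro j hj j0
      rw [← Finset.sum_smul, Finset.sum_congr rfl (g := fun a => (ζ⁻¹ ^ j) ^ a) fun a _ => by
        rw [← inv_pow, ← pow_mul, ← pow_mul, mul_comm]]
      have := mul_geom_sum (ζ⁻¹ ^ j) n
      rw [← pow_mul, mul_comm j, pow_mul, hζ.inv.pow_eq_one, one_pow, sub_self, mul_eq_zero, sub_eq_zero] at this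
      rw [this.resolve_left (hζ.inv.pow_ne_one_of_pos_of_lt j0 (Finset.mem_range.1 hj)), zero_smul]
    · simp [h0]
  have h7 : ∀ a : ZMod n, rk ρ ((n : ℂ)⁻¹ • S a.val) = ed (AddChar.zmodChar n hz.pow_eq_one) (ρ g) a := by
    intro a
    have k1 : (ρ g) ^ n = 1 := by rw [← map_pow, hg, map_one]
    have k2 : (red M ζ ^ a.val) ^ n = 1 := by rw [← pow_mul, mul_comm, pow_mul, hz.pow_eq_one, one_pow]
    have k3 : Representation.asAlgebraHom ρ (redAlg M (S a.val)) =
        ∑ j ∈ Finset.range n, (red M ζ ^ a.val)⁻¹ ^ j • ρ g ^ j := by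
      rw [redAlg_sum fun j _ => h4 _ j, map_sum]
      refine Finset.sum_congr rfl fun j _ => ?_
      rw [redAlg_smul (h3 _ j) (pow_mem (single_one_mem_intAlg g) j), redAlg_pow (single_one_mem_intAlg g),
        redAlg_single_one, red_pow (val_inv_of_eq_one (hv _)).le, red_inv (hv _), red_pow hv1, map_smul,
        map_pow, Representation.asAlgebraHom_single_one]
    rw [rk, ed, redAlg_smul (val_inv_of_eq_one hnv).le (h5 _), map_smul, red_inv hnv, red_natCast,
      LinearMap.range_smul _ _ (inv_ne_zero hk), k3, AddChar.zmodChar_apply, range_eig k1 k2 hk]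
  have h8 : x ^ m = ∑ a ∈ Finset.range n, (ζ ^ a) ^ m • (n : ℂ)⁻¹ • S a := by
    simp only [smul_comm _ (n : ℂ)⁻¹, ← h1, ← Finset.smul_sum, ← Finset.mul_sum, h6]
    rw [mul_smul_comm, smul_smul, inv_mul_cancel₀ hc, one_smul, mul_one]
  have h9 : bc ρ (g ^ m) = ev (bc ρ) (x ^ m) := by simp [x, single_pow]
  rw [h9, h8, ← sum_zmod n fun a => (ζ ^ a) ^ m • (n : ℂ)⁻¹ • S a, map_sum]
  refine Finset.sum_congr rfl fun a _ => ?_
  rw [map_smul, ev_bc ρ hM (intAlg_smul_mem (val_inv_of_eq_one hnv).le (h5 _)) (h2 _), h7, ← pow_mul,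
    smul_eq_mul, mul_comm]

end Cfsg.Agent.XM.E3
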