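import Mathlib
import Cfsg.Agent.XM.E8L2

/-!
# `E₈(3)` has no subgroups `PSL₂(243)`, `PSL₂(729)`
-/

set_option autoImplicit false

namespace Cfsg.Agent.XM

open Cfsg.Lie Cfsg.Agent.Chev Cfsg.Agent.Chev.AS Multiset
open scoped MatrixGroups

/-- Non-trivial eigenvalues of an involution. -/
def g4 (i : ℕ) : ℕ := if i = 0 then 256 else 257

/-- The sums over the orbits. -/
def L243 : List ℕ := [62330, 61560, 46170, 34630, 20520, 15390, 11540, 5130, 3850]

theorem orb243 : ∀ r < 3 ^ (4 + 1), r % 2 = 0 → (∀ s ∈ orb 3 4 r, r ≤ s) →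
    ((orb 3 4 r).map (rot 3 4)).Perm (orb 3 4 r) ∧
    (∀ s ∈ orb 3 4 r, s < 3 ^ (4 + 1)) ∧ frcN ((orb 3 4 r).map fun s => ((wl 3 (4 + 1) s).map
      fun j : ℤ => g4 (j % (4 : ℕ)).toNat).sum).sum
        (fun s => Nat.ble (249 * 256) s || L243.elem s || Nat.beq (s % 256) 0) = true := by
  decide +kernel

theorem sums243 : allSums (249 * 256) 20
    (fun a => decide (a % 256 ≠ 128 ∧ a % 256 ≠ 112)) L243 0 = true := by decide +kernel

/-- Non-trivial eigenvalues of elements of order two and four. -/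
def g8 (i : ℕ) : ℕ := if i = 0 then 256 ^ 4 else if i = 4 then 256 ^ 4 + 256 ^ 2 else
  256 ^ 4 + 256 ^ 3 + 256 ^ 2

/-- Non-trivial eigenvalues. -/
def g0 (c i : ℕ) : ℕ := if i = 0 then 0 else c

/-- The sums over the orbits. -/
def L729 : List ℕ := [1045702164684, 929535931584, 929535931572, 929535928512, 929535928500,
  929535145152, 929535145140, 929535142080, 929535142068, 697201886352, 697201886340, 464767964250,
  464767964244, 413127693396, 413126117460, 309845572680, 309845572668, 309844786248, 309844786236,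
  309844783164, 275418199094, 232400627760, 232333258800, 232333255728, 206563058724, 116166629394,
  103282120728, 103281331224, 77511527436, 51641060358]

theorem orb729 : ∀ r < 3 ^ (5 + 1), r % 2 = 0 → (∀ s ∈ orb 3 5 r, r ≤ s) →
    ((orb 3 5 r).map (rot 3 5)).Perm (orb 3 5 r) ∧
    (∀ s ∈ orb 3 5 r, s < 3 ^ (5 + 1)) ∧ frcN ((orb 3 5 r).map fun s => ((wl 3 (5 + 1) s).map
      fun j : ℤ => g8 (j % (8 : ℕ)).toNat + (g0 256 (j % (5 : ℕ)).toNat + g0 1 (j % (7 : ℕ)).toNat)).sum).sum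
        (fun s => Nat.ble (249 * 256 ^ 4) s || L729.elem s || Nat.beq (s % 256 ^ 4) 0) = true := by
  decide +kernel

theorem sums729 : allSums (249 * 256 ^ 4) 22 (fun a => decide ((a % 256 = 210 ∨ a % 256 = 168) →
    (a / 256 % 256 = 200 ∨ a / 256 % 256 = 180) → a / 256 ^ 2 % 256 ^ 2 ∉ [188 + 128 * 256,
      184 + 128 * 256, 182 + 112 * 256, 178 + 112 * 256, 166 + 112 * 256, 156 + 128 * 256, 128,
      114 + 112 * 256, 112])) L729 0 = true := by decide +kernel

theorem chk4 : enum alc8.m 4 (alc8.leaf 4 fun H => decide (dg H 1 = 0 →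
    dg H 0 = 120 ∨ dg H 0 = 136)) = true := by decide +kernel

theorem chk8 : enum alc8.m 8 (alc8.leaf 8 fun H => decide (dg H 1 = 0 → dg H 3 = 0 →
    dg H 0 + 256 * dg H 4 ∈ [60 + 256 * 60, 64 + 256 * 56, 66 + 256 * 70, 70 + 256 * 66,
      82 + 256 * 54, 92 + 256 * 28, 120 + 256 * 128, 134 + 256 * 2, 136 + 256 * 112])) = true := by
  decide +kernel

theorem chk5 : enum alc8.m 5 (alc8.leaf 5 fun H => decide (dg H 1 = dg H 2 →
    dg H 0 = 48 ∨ dg H 0 = 52 ∨ dg H 0 = 68)) = true := by decide +kernel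

theorem chk7 : enum alc8.m 7 (alc8.leaf 7 fun H => decide (dg H 1 = dg H 2 → dg H 1 = dg H 3 →
    dg H 0 = 38 ∨ dg H 0 = 80)) = true := by decide +kernel

end Cfsg.Agent.XM
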